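/-
An elementary abelian 2-group acting faithfully on a nilpotent group of odd order acts faithfully
on an invariant abelian subgroup, and eigen-elements of such an action.  This is the local analysis
behind the Thompson dihedral lemma.
-/
import Cfsg.Agent.Lib.Coprime.Action
import Cfsg.Agent.Lib.Components.GenFitting
import Cfsg.Prelude.Def_Transfer
import Mathlib.Tactic.Group

set_option autoImplicit false

namespace Cfsg.Agent.Lib.Dihedral2.Basic

open Subgroup
open Cfsg.Agent.Lib.Coprime.Action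
open scoped commutatorElement

variable {G : Type*} [Group G]

/-- `c` acts on `x` by `x ↦ x` or `x ↦ x⁻¹`. -/
def Eig (c x : G) : Prop := c * x * c⁻¹ = x ∨ c * x * c⁻¹ = x⁻¹

/-- the stabilizer of `{x, x⁻¹}` under conjugation. -/
def eigSub (x : G) : Subgroup G where
  carrier := {c | Eig c x}
  one_mem' := Or.inl (by simp)
  mul_mem' := by
    intro c d hc hd
    show Eig (c * d) x
    have e : c * d * x * (c * d)⁻¹ = c * (d * x * d⁻¹) * c⁻¹ := by group
    rcases hd with hd | hd <;> rcases hc with hc | hc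
    · left; rw [e, hd, hc]
    · right; rw [e, hd, hc]
    · right
      rw [e, hd]
      have : c * x⁻¹ * c⁻¹ = (c * x * c⁻¹)⁻¹ := by group
      rw [this, hc]
    · left
      rw [e, hd]
      have : c * x⁻¹ * c⁻¹ = (c * x * c⁻¹)⁻¹ := by group
      rw [this, hc, inv_inv]
  inv_mem' := by
    intro c hc
    show Eig c⁻¹ x
    rcases hc with hc | hc
    · left
      calc c⁻¹ * x * c⁻¹⁻¹ = c⁻¹ * (c * x * c⁻¹) * c := by rw [hc]; group
        _ = x := by group
    · right
      have : x = c * x⁻¹ * c⁻¹ := by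
        have h2 : c * x⁻¹ * c⁻¹ = (c * x * c⁻¹)⁻¹ := by group
        rw [h2, hc, inv_inv]
      calc c⁻¹ * x * c⁻¹⁻¹ = c⁻¹ * (c * x⁻¹ * c⁻¹) * c := by
            rw [← this]; group
        _ = x⁻¹ := by group

theorem mem_eigSub {c x : G} : c ∈ eigSub x ↔ Eig c x := Iff.rfl

theorem odd_orderOf_of_mem [Finite G] {X : Subgroup G} (hX : Odd (Nat.card X)) {x : G} (hx : x ∈ X) :
    Odd (orderOf x) :=
  Odd.of_dvd_nat hX (Subgroup.orderOf_dvd_natCard X hx)

theorem mem_of_sq_mem {S : Subgroup G} {x : G} (hodd : Odd (orderOf x)) (h : x ^ 2 ∈ S) : x ∈ S := by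
  obtain ⟨k, hk⟩ := hodd
  have e : x = (x ^ 2) ^ (k + 1) := by
    rw [← pow_mul]
    have : 2 * (k + 1) = orderOf x + 1 := by omega
    rw [this, pow_succ, pow_orderOf_eq_one, one_mul]
  rw [e]
  exact S.pow_mem h _

theorem eq_one_of_sq {x : G} (hodd : Odd (orderOf x)) (h : x ^ 2 = 1) : x = 1 := by
  have : x ∈ (⊥ : Subgroup G) := mem_of_sq_mem hodd (by rw [h]; exact one_mem _)
  simpa using this

/-- Eigen-elements in an abelian group of odd order. -/
theorem exists_eig [Finite G] {A W : Subgroup G}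
    (hA : Cfsg.IsElementaryAbelian 2 A) (hWc : ∀ x ∈ W, ∀ y ∈ W, x * y = y * x)
    (hWodd : Odd (Nat.card W)) (hW1 : W ≠ ⊥) (hAW : A ≤ normalizer (W : Set G)) :
    ∃ w ∈ W, w ≠ 1 ∧ ∀ c ∈ A, Eig c w := by
  classical
  have hAcomm : ∀ x ∈ A, ∀ y ∈ A, x * y = y * x := by
    intro x hx y hy
    exact congrArg Subtype.val (hA.1.is_comm.comm ⟨x, hx⟩ ⟨y, hy⟩)
  let P : Subgroup G → Prop := fun B => B ≤ A ∧ ∃ w ∈ W, w ≠ 1 ∧ B ≤ eigSub w
  have hP0 : P ⊥ := by
    obtain ⟨w, hw⟩ := (Subgroup.ne_bot_iff_exists_ne_one.mp hW1)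
    exact ⟨bot_le, w, w.2, fun h => hw (Subtype.ext h), bot_le⟩
  obtain ⟨B, -, hB⟩ := Finite.exists_le_maximal (p := P) hP0
  obtain ⟨hBA, w, hw, hw1, hwB⟩ := hB.prop
  refine ⟨w, hw, hw1, ?_⟩
  by_contra hnot
  push Not at hnot
  obtain ⟨b, hbA, hbw⟩ := hnot
  have hbB : b ∉ B := fun h => hbw (hwB h)
  have hb2 : b * b = 1 := by
    have := hA.2 b hbA
    rwa [pow_two] at this
  have hbi : b⁻¹ = b := inv_eq_of_mul_eq_one_left hb2
  set v := b * w * b⁻¹ with hv
  have hvW : v ∈ W := conj_mem_of_le_normalizer hAW hbA hw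
  have hbv : b * v * b⁻¹ = w := by
    rw [hv, hbi]
    calc b * (b * w * b) * b = (b * b) * w * (b * b) := by group
      _ = w := by rw [hb2]; group
  -- the action of elements of B on v
  have hcv : ∀ c ∈ B, (c * w * c⁻¹ = w → c * v * c⁻¹ = v) ∧
      (c * w * c⁻¹ = w⁻¹ → c * v * c⁻¹ = v⁻¹) := by
    intro c hc
    have hcb : c * b = b * c := hAcomm c (hBA hc) b hbA
    have hcbi : c⁻¹ * b⁻¹ = b⁻¹ * c⁻¹ := by
      rw [← mul_inv_rev, ← mul_inv_rev, hcb]
    have e : c * v * c⁻¹ = b * (c * w * c⁻¹) * b⁻¹ := by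
      rw [hv]
      calc c * (b * w * b⁻¹) * c⁻¹ = (c * b) * w * (b⁻¹ * c⁻¹) := by group
        _ = (b * c) * w * (c⁻¹ * b⁻¹) := by rw [hcb, hcbi]
        _ = _ := by group
    constructor
    · intro h; rw [e, h]
    · intro h; rw [e, h, hv]; group
  clear_value v
  by_cases h1 : w * v = 1
  · -- then try w⁻¹ * v
    have hne : w⁻¹ * v ≠ 1 := by
      intro h2
      have hvw : v = w := by
        have := congrArg (fun z => w * z) h2
        simpa using this
      rw [hvw] at h1
      have hs : w ^ 2 = 1 := by rw [pow_two]; exact h1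
      exact hw1 (eq_one_of_sq (odd_orderOf_of_mem hWodd hw) hs)
    have hmem : w⁻¹ * v ∈ W := W.mul_mem (W.inv_mem hw) hvW
    have hle : B ⊔ zpowers b ≤ eigSub (w⁻¹ * v) := by
      apply sup_le
      · intro c hc
        show Eig c (w⁻¹ * v)
        have e : c * (w⁻¹ * v) * c⁻¹ = (c * w * c⁻¹)⁻¹ * (c * v * c⁻¹) := by group
        rcases hwB hc with h | h
        · left; rw [e, h, (hcv c hc).1 h]
        · right
          rw [e, h, (hcv c hc).2 h, inv_inv, mul_inv_rev, inv_inv]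
          exact hWc w hw v⁻¹ (W.inv_mem hvW)
      · rw [zpowers_le]
        show Eig b (w⁻¹ * v)
        right
        have e : b * (w⁻¹ * v) * b⁻¹ = v⁻¹ * w := by
          have e1 : b * (w⁻¹ * v) * b⁻¹ = (b * w * b⁻¹)⁻¹ * (b * v * b⁻¹) := by group
          rw [e1, ← hv, hbv]
        rw [e]; group
    have hP' : P (B ⊔ zpowers b) := ⟨sup_le hBA (by rw [zpowers_le]; exact hbA), _, hmem, hne, hle⟩
    exact hbB (hB.le_of_ge hP' le_sup_left (mem_sup_right (mem_zpowers b)))
  · have hmem : w * v ∈ W := W.mul_mem hw hvW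
    have hle : B ⊔ zpowers b ≤ eigSub (w * v) := by
      apply sup_le
      · intro c hc
        show Eig c (w * v)
        have e : c * (w * v) * c⁻¹ = (c * w * c⁻¹) * (c * v * c⁻¹) := by group
        rcases hwB hc with h | h
        · left; rw [e, h, (hcv c hc).1 h]
        · right
          rw [e, h, (hcv c hc).2 h, mul_inv_rev]
          exact hWc _ (W.inv_mem hw) _ (W.inv_mem hvW)
      · rw [zpowers_le]
        show Eig b (w * v)
        left
        have e1 : b * (w * v) * b⁻¹ = (b * w * b⁻¹) * (b * v * b⁻¹) := by group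
        rw [e1, ← hv, hbv]
        exact hWc v hvW w hw
    have hP' : P (B ⊔ zpowers b) := ⟨sup_le hBA (by rw [zpowers_le]; exact hbA), _, hmem, h1, hle⟩
    exact hbB (hB.le_of_ge hP' le_sup_left (mem_sup_right (mem_zpowers b)))

/-- An involution centralizing `Y`, `C_X(Y) ≤ Y` centralizes `X`, when `X` has odd order. -/
theorem mem_centralizer_of_mem_centralizer [Finite G] {X Y : Subgroup G} {a : G} (ha : a * a = 1)
    (hX : Odd (Nat.card X)) (haX : a ∈ normalizer (X : Set G)) (hYX : X ≤ normalizer (Y : Set G))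
    (hYle : Y ≤ X) (haY : a ∈ centralizer (Y : Set G)) (hC : X ⊓ centralizer (Y : Set G) ≤ Y) :
    a ∈ centralizer (X : Set G) := by
  refine mem_centralizer_iff.mpr ?_
  intro f hf
  have hai : a⁻¹ = a := inv_eq_of_mul_eq_one_left ha
  have hafX : a * f * a⁻¹ ∈ X := (mem_normalizer_iff.mp haX f).mp hf
  set w := f⁻¹ * (a * f * a⁻¹) with hw
  have hwX : w ∈ X := X.mul_mem (X.inv_mem hf) hafX
  have hwC : w ∈ centralizer (Y : Set G) := by
    refine mem_centralizer_iff.mpr ?_
    intro t ht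
    have ht1 : f * t * f⁻¹ ∈ Y := (mem_normalizer_iff.mp (hYX hf) t).mp ht
    have e1 : a * (f * t * f⁻¹) = (f * t * f⁻¹) * a :=
      (mem_centralizer_iff.mp haY _ ht1).symm
    have e2 : a * t = t * a := (mem_centralizer_iff.mp haY _ ht).symm
    -- (a f a⁻¹) t (a f a⁻¹)⁻¹ = f t f⁻¹
    have e3 : (a * f * a⁻¹) * t * (a * f * a⁻¹)⁻¹ = f * t * f⁻¹ := by
      have e4 : a⁻¹ * t = t * a⁻¹ := by
        rw [hai]; exact e2
      calc (a * f * a⁻¹) * t * (a * f * a⁻¹)⁻¹ = a * f * (a⁻¹ * t) * (a * f⁻¹ * a⁻¹) := by group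
        _ = a * f * (t * a⁻¹) * (a * f⁻¹ * a⁻¹) := by rw [e4]
        _ = a * (f * t * f⁻¹) * a⁻¹ := by group
        _ = (f * t * f⁻¹) * a * a⁻¹ := by rw [e1]
        _ = f * t * f⁻¹ := by group
    rw [hw]
    calc t * (f⁻¹ * (a * f * a⁻¹)) = f⁻¹ * (f * t * f⁻¹) * (a * f * a⁻¹) := by group
      _ = f⁻¹ * ((a * f * a⁻¹) * t * (a * f * a⁻¹)⁻¹) * (a * f * a⁻¹) := by rw [e3]
      _ = f⁻¹ * (a * f * a⁻¹) * t := by group
  have hwY : w ∈ Y := hC ⟨hwX, hwC⟩
  have hawa : a * w * a⁻¹ = w := by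
    have := mem_centralizer_iff.mp haY w hwY
    calc a * w * a⁻¹ = w * a * a⁻¹ := by rw [← this]
      _ = w := by group
  -- a f a⁻¹ = f w, and applying again
  have h1 : a * f * a⁻¹ = f * w := by rw [hw]; group
  have h2 : a * (a * f * a⁻¹) * a⁻¹ = f := by
    rw [hai]
    calc a * (a * f * a) * a = (a * a) * f * (a * a) := by group
      _ = f := by rw [ha]; group
  have h3 : w ^ 2 = 1 := by
    have e : a * (f * w) * a⁻¹ = (a * f * a⁻¹) * (a * w * a⁻¹) := by group
    rw [h1, e, h1, hawa] at h2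
    have h4 : f * w * w = f := h2
    have : f * (w * w) = f * 1 := by rw [mul_one, ← mul_assoc]; exact h4
    rw [pow_two]
    exact mul_left_cancel this
  have hw1 : w = 1 := eq_one_of_sq (odd_orderOf_of_mem hX hwX) h3
  rw [hw1, mul_one] at h1
  calc f * a = (a * f * a⁻¹) * a := by rw [h1]
    _ = a * f := by group

/-- Two commuting abelian subgroups generate an abelian subgroup. -/
theorem comm_sup {X Y : Subgroup G} (hX : ∀ x ∈ X, ∀ y ∈ X, x * y = y * x)
    (hY : ∀ x ∈ Y, ∀ y ∈ Y, x * y = y * x) (hXY : ∀ x ∈ X, ∀ y ∈ Y, x * y = y * x) :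
    ∀ x ∈ X ⊔ Y, ∀ y ∈ X ⊔ Y, x * y = y * x := by
  have h1 : X ≤ centralizer (X : Set G) := fun x hx =>
    mem_centralizer_iff.mpr fun y hy => hX y hy x hx
  have h2 : X ≤ centralizer (Y : Set G) := fun x hx =>
    mem_centralizer_iff.mpr fun y hy => (hXY x hx y hy).symm
  have h3 : Y ≤ centralizer (Y : Set G) := fun x hx =>
    mem_centralizer_iff.mpr fun y hy => hY y hy x hx
  have h4 : Y ≤ centralizer (X : Set G) := le_centralizer_iff.mp h2
  have h5 : X ⊔ Y ≤ centralizer (X : Set G) := sup_le h1 h4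
  have h6 : X ⊔ Y ≤ centralizer (Y : Set G) := sup_le h2 h3
  have h7 : X ≤ centralizer ((X ⊔ Y : Subgroup G) : Set G) := le_centralizer_iff.mp h5
  have h8 : Y ≤ centralizer ((X ⊔ Y : Subgroup G) : Set G) := le_centralizer_iff.mp h6
  have h9 : X ⊔ Y ≤ centralizer ((X ⊔ Y : Subgroup G) : Set G) := sup_le h7 h8
  intro x hx y hy
  exact (mem_centralizer_iff.mp (h9 hx) y hy).symm

/-- The chain `C, [C,F], [C,F,F], …`. -/
def chainD (C F : Subgroup G) : ℕ → Subgroup G
  | 0 => C
  | n + 1 => ⁅chainD C F n, F⁆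

/-- **The self-centralizing invariant abelian subgroup.** -/
theorem exists_selfCentralizing_abelian [Finite G] {A F : Subgroup G}
    (hA : Cfsg.IsElementaryAbelian 2 A) (hnil : Group.IsNilpotent F) (hFodd : Odd (Nat.card F))
    (hAF : A ≤ normalizer (F : Set G)) :
    ∃ T ≤ F, (∀ x ∈ T, ∀ y ∈ T, x * y = y * x) ∧ A ≤ normalizer (T : Set G) ∧
      F ≤ normalizer (T : Set G) ∧ F ⊓ centralizer (T : Set G) ≤ T := by
  classical
  let P : Subgroup G → Prop := fun T => T ≤ F ∧ (∀ x ∈ T, ∀ y ∈ T, x * y = y * x) ∧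
    A ≤ normalizer (T : Set G) ∧ F ≤ normalizer (T : Set G)
  have hP0 : P ⊥ := by
    refine ⟨bot_le, ?_, ?_, ?_⟩
    · intro x hx y hy
      rw [mem_bot] at hx hy
      rw [hx, hy]
    · rw [le_normalizer_iff]
      intro h _ k hk
      rw [mem_bot] at hk ⊢
      simp [hk]
    · rw [le_normalizer_iff]
      intro h _ k hk
      rw [mem_bot] at hk ⊢
      simp [hk]
  obtain ⟨T, -, hT⟩ := Finite.exists_le_maximal (p := P) hP0
  obtain ⟨hTF, hTc, hAT, hFT⟩ := hT.prop
  refine ⟨T, hTF, hTc, hAT, hFT, ?_⟩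
  by_contra hC
  set C : Subgroup G := F ⊓ centralizer (T : Set G) with hCdef
  -- C is normalized by F and A
  have hnormC : ∀ g, g ∈ normalizer (F : Set G) → g ∈ normalizer (T : Set G) →
      g ∈ normalizer (C : Set G) := by
    intro g hgF hgT
    rw [mem_normalizer_iff]
    intro x
    constructor
    · rintro ⟨hx1, hx2⟩
      refine Subgroup.mem_inf.mpr ⟨(mem_normalizer_iff.mp hgF x).mp hx1, ?_⟩
      refine mem_centralizer_iff.mpr ?_
      intro t ht
      have ht' : g⁻¹ * t * g ∈ T := by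
        have := (mem_normalizer_iff.mp ((normalizer (T : Set G)).inv_mem hgT) t).mp ht
        simpa using this
      have := mem_centralizer_iff.mp hx2 _ ht'
      calc t * (g * x * g⁻¹) = g * ((g⁻¹ * t * g) * x) * g⁻¹ := by group
        _ = g * (x * (g⁻¹ * t * g)) * g⁻¹ := by rw [this]
        _ = g * x * g⁻¹ * t := by group
    · rintro ⟨hx1, hx2⟩
      refine Subgroup.mem_inf.mpr ⟨(mem_normalizer_iff.mp hgF x).mpr hx1, ?_⟩
      refine mem_centralizer_iff.mpr ?_
      intro t ht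
      have ht' : g * t * g⁻¹ ∈ T := (mem_normalizer_iff.mp hgT t).mp ht
      have := mem_centralizer_iff.mp hx2 _ ht'
      have h2 : g * (t * x) * g⁻¹ = g * (x * t) * g⁻¹ := by
        calc g * (t * x) * g⁻¹ = (g * t * g⁻¹) * (g * x * g⁻¹) := by group
          _ = (g * x * g⁻¹) * (g * t * g⁻¹) := this
          _ = g * (x * t) * g⁻¹ := by group
      exact mul_left_cancel (mul_right_cancel h2)
  have hFC : F ≤ normalizer (C : Set G) := fun f hf => hnormC f (le_normalizer hf) (hFT hf)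
  have hAC : A ≤ normalizer (C : Set G) := fun a ha => hnormC a (hAF ha) (hAT ha)
  -- the descending chain
  let D : ℕ → Subgroup G := chainD C F
  have hD0 : D 0 = C := rfl
  have hDs : ∀ n, D (n + 1) = ⁅D n, F⁆ := fun _ => rfl
  have hDC : ∀ n, D n ≤ C := by
    intro n
    induction n with
    | zero => exact le_rfl
    | succ n ih =>
      rw [hDs, commutator_le]
      intro x hx f hf
      have hx' := ih hx
      have e : ⁅x, f⁆ = x * (f * x⁻¹ * f⁻¹) := by rw [commutatorElement_def]; group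
      rw [e]
      exact C.mul_mem hx' ((mem_normalizer_iff.mp (hFC hf) x⁻¹).mp (C.inv_mem hx'))
  have hDA : ∀ n, A ≤ normalizer ((D n : Subgroup G) : Set G) := by
    intro n
    induction n with
    | zero => exact hAC
    | succ n ih =>
      rw [hDs]
      exact le_normalizer_commutator_of_le ih hAF
  have hDL : ∀ n, D n ≤ F.lowerCentralSeries n := by
    intro n
    induction n with
    | zero => exact inf_le_left
    | succ n ih =>
      rw [hDs, Subgroup.lowerCentralSeries_succ]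
      exact commutator_mono ih le_rfl
  obtain ⟨n, hn⟩ := (isNilpotent_iff_lowerCentralSeries F).mp hnil
  have hex : ∃ n, D n ≤ T := ⟨n, by
    have := hDL n
    rw [hn] at this
    exact this.trans bot_le⟩
  have hfind := Nat.find_spec hex
  have hne : Nat.find hex ≠ 0 := by
    intro h0
    rw [h0] at hfind
    exact hC hfind
  obtain ⟨i, hi⟩ := Nat.exists_eq_succ_of_ne_zero hne
  have hUT : ¬ D i ≤ T := by
    apply Nat.find_min hex
    omega
  have hUF : ⁅D i, F⁆ ≤ T := by
    rw [← hDs]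
    rw [hi] at hfind
    exact hfind
  set U := D i with hU
  have hUC : U ≤ C := hDC i
  have hUFle : U ≤ F := hUC.trans inf_le_left
  have hAU : A ≤ normalizer (U : Set G) := hDA i
  -- pass to the quotient by T
  set M := normalizer (T : Set G) with hM
  haveI hnormal : (T.subgroupOf M).Normal :=
    normal_subgroupOf_iff_le_normalizer le_normalizer |>.mpr le_rfl
  let π : ↥M →* ↥M ⧸ T.subgroupOf M := QuotientGroup.mk' (T.subgroupOf M)
  have hπker : ∀ g : ↥M, π g = 1 ↔ (g : G) ∈ T := by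
    intro g
    rw [QuotientGroup.mk'_apply, QuotientGroup.eq_one_iff, mem_subgroupOf]
  have hUM : U ≤ M := hUFle.trans hFT
  set W : Subgroup (↥M ⧸ T.subgroupOf M) := (U.subgroupOf M).map π with hW
  set Abar : Subgroup (↥M ⧸ T.subgroupOf M) := (A.subgroupOf M).map π with hAbar
  have hAbarEA : Cfsg.IsElementaryAbelian 2 Abar := by
    refine ⟨?_, ?_⟩
    · constructor
      constructor
      rintro ⟨_, x, hx, rfl⟩ ⟨_, y, hy, rfl⟩
      apply Subtype.ext
      show π x * π y = π y * π x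
      rw [← map_mul, ← map_mul]
      congr 1
      apply Subtype.ext
      have hx' : (x : G) ∈ A := hx
      have hy' : (y : G) ∈ A := hy
      have hc : ((⟨x, hx'⟩ * ⟨y, hy'⟩ : ↥A) : G) = ((⟨y, hy'⟩ * ⟨x, hx'⟩ : ↥A) : G) :=
        congrArg Subtype.val (hA.1.is_comm.comm ⟨x, hx'⟩ ⟨y, hy'⟩)
      exact hc
    · rintro _ ⟨x, hx, rfl⟩
      rw [← map_pow]
      have : x ^ 2 = 1 := Subtype.ext (hA.2 x hx)
      rw [this, map_one]
  have hWc : ∀ x ∈ W, ∀ y ∈ W, x * y = y * x := by
    rintro _ ⟨x, hx, rfl⟩ _ ⟨y, hy, rfl⟩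
    have hx' : (x : G) ∈ U := hx
    have hy' : (y : G) ∈ U := hy
    have hcomm : ⁅(x : G), (y : G)⁆ ∈ T := hUF (commutator_mem_commutator hx' (hUFle hy'))
    have h1 : π ⁅x, y⁆ = 1 := (hπker _).mpr hcomm
    rw [map_commutatorElement] at h1
    exact commutatorElement_eq_one_iff_mul_comm.mp h1
  have hWodd : Odd (Nat.card W) := by
    have h1 : Nat.card W ∣ Nat.card ↥(U.subgroupOf M) := card_map_dvd _ _
    have h2 : Nat.card ↥(U.subgroupOf M) = Nat.card ↥U :=
      Nat.card_congr (subgroupOfEquivOfLe hUM).toEquiv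
    have h3 : Nat.card ↥U ∣ Nat.card F := card_dvd_of_le hUFle
    exact Odd.of_dvd_nat hFodd (h1.trans (h2 ▸ h3))
  have hW1 : W ≠ ⊥ := by
    obtain ⟨u, hu, hut⟩ := SetLike.not_le_iff_exists.mp hUT
    intro h
    have : π ⟨u, hUM hu⟩ ∈ W := ⟨_, mem_subgroupOf.mpr hu, rfl⟩
    rw [h, mem_bot] at this
    exact hut ((hπker _).mp this)
  have hAbarW : Abar ≤ normalizer (W : Set _) := by
    rw [le_normalizer_iff]
    rintro _ ⟨a, ha, rfl⟩ _ ⟨u, hu, rfl⟩
    refine ⟨a * u * a⁻¹, mem_subgroupOf.mpr ?_, by simp⟩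
    exact conj_mem_of_le_normalizer hAU ha hu
  obtain ⟨w, hw, hw1, hweig⟩ := exists_eig hAbarEA hWc hWodd hW1 hAbarW
  obtain ⟨u, hu, rfl⟩ := hw
  have hu' : (u : G) ∈ U := hu
  have huT : (u : G) ∉ T := fun h => hw1 ((hπker u).mpr h)
  have huC : (u : G) ∈ C := hUC hu'
  have huF : (u : G) ∈ F := hUFle hu'
  -- the bigger subgroup
  set T' : Subgroup G := T ⊔ zpowers (u : G) with hT'
  have hT'F : T' ≤ F := sup_le hTF (by rw [zpowers_le]; exact huF)
  have hT'c : ∀ x ∈ T', ∀ y ∈ T', x * y = y * x := by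
    apply comm_sup hTc
    · intro x hx y hy
      obtain ⟨k, rfl⟩ := mem_zpowers_iff.mp hx
      obtain ⟨l, rfl⟩ := mem_zpowers_iff.mp hy
      rw [← zpow_add, ← zpow_add, add_comm]
    · intro x hx y hy
      obtain ⟨l, rfl⟩ := mem_zpowers_iff.mp hy
      have hc : Commute x (u : G) := (mem_centralizer_iff.mp huC.2 x hx)
      exact (hc.zpow_right l).eq
  have hconjT' : ∀ g, g ∈ normalizer (T : Set G) → g * (u : G) * g⁻¹ ∈ T' → g ∈ normalizer (T' : Set G) := by
    intro g hgT hgu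
    have hle : T' ≤ T'.comap (MulAut.conj g).toMonoidHom := by
      apply sup_le
      · intro t ht
        show g * t * g⁻¹ ∈ T'
        exact mem_sup_left ((mem_normalizer_iff.mp hgT t).mp ht)
      · rw [zpowers_le]
        exact hgu
    -- finite group: conj maps T' onto itself
    have hcard : T'.map (MulAut.conj g).toMonoidHom = T' := by
      apply Subgroup.eq_of_le_of_card_ge (map_le_iff_le_comap.mpr hle)
      rw [Subgroup.card_map_of_injective (MulEquiv.injective _)]
    rw [mem_normalizer_iff]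
    intro x
    constructor
    · intro hx
      exact hle hx
    · intro hx
      have : g * x * g⁻¹ ∈ T'.map (MulAut.conj g).toMonoidHom := by rwa [hcard]
      obtain ⟨y, hy, hyx⟩ := this
      have hyx' : g * y * g⁻¹ = g * x * g⁻¹ := hyx
      have : y = x := mul_left_cancel (mul_right_cancel hyx')
      rwa [← this]
  have hP' : P T' := by
    refine ⟨hT'F, hT'c, ?_, ?_⟩
    · intro c hc
      apply hconjT' c (hAT hc)
      have hcM : c ∈ M := hAT hc
      have hcA : (⟨c, hcM⟩ : ↥M) ∈ A.subgroupOf M := mem_subgroupOf.mpr hc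
      have hcb : π ⟨c, hcM⟩ ∈ Abar := ⟨_, hcA, rfl⟩
      rcases hweig _ hcb with h | h
      · -- c u c⁻¹ u⁻¹ ∈ T
        have h1 : π (⟨c, hcM⟩ * u * (⟨c, hcM⟩)⁻¹ * u⁻¹) = 1 := by
          simp only [map_mul, map_inv]
          rw [h]; group
        have h2 := (hπker _).mp h1
        have h3 : c * (u : G) * c⁻¹ = (c * (u : G) * c⁻¹ * (u : G)⁻¹) * (u : G) := by group
        rw [h3]
        exact mul_mem (mem_sup_left h2) (mem_sup_right (mem_zpowers _))
      · have h1 : π (⟨c, hcM⟩ * u * (⟨c, hcM⟩)⁻¹ * u) = 1 := by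
          simp only [map_mul, map_inv]
          rw [h]; group
        have h2 := (hπker _).mp h1
        have h3 : c * (u : G) * c⁻¹ = (c * (u : G) * c⁻¹ * (u : G)) * (u : G)⁻¹ := by group
        rw [h3]
        exact mul_mem (mem_sup_left h2) (mem_sup_right (inv_mem (mem_zpowers _)))
    · intro f hf
      apply hconjT' f (hFT hf)
      have h1 : ⁅(u : G), f⁆ ∈ T := hUF (commutator_mem_commutator hu' hf)
      have h2 : f * (u : G) * f⁻¹ = ⁅(u : G), f⁆⁻¹ * (u : G) := by
        rw [commutatorElement_def]; group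
      rw [h2]
      exact mul_mem (mem_sup_left (inv_mem h1)) (mem_sup_right (mem_zpowers _))
  have hle := hT.le_of_ge hP' le_sup_left
  exact huT (hle (mem_sup_right (mem_zpowers _)))


end Cfsg.Agent.Lib.Dihedral2.Basic
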